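import Groth.Prelude.Def_EtRam
import Groth.Agent.TameAbh.Dominate
import Groth.Agent.TameAbh.Radical
import Groth.Agent.DvrGeneric.Basic
import Groth.Agent.EtRamTower.Basic

/-!
# Finite étale covers of proper schemes are unramified at every place
-/

set_option autoImplicit false
set_option backward.isDefEq.respectTransparency false

universe u

open CategoryTheory CategoryTheory.Limits AlgebraicGeometry IsLocalRing

namespace Groth.Agent.ProperTame

/-- A field extension generated by a finite étale algebra over a DVR is unramified. -/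
theorem isUnramifiedExt_of_etale {A C L : Type u} [CommRing A] [IsDomain A] [IsDiscreteValuationRing A]
    [CommRing C] [Algebra A C] [Module.Finite A C] [Algebra.Etale A C] [Field L] (χ : C →+* L)
    (hinj : Function.Injective (χ.comp (algebraMap A C))) (hgen : Subfield.closure (Set.range χ) = ⊤) :
    EtRam.IsUnramifiedExt A (χ.comp (algebraMap A C)) := by
  intro V hV
  intro hloc
  letI iV : Algebra A V := (RingHom.codRestrict (χ.comp (algebraMap A C)) V hV.1).toAlgebra
  haveI : IsLocalHom (algebraMap A V) := EtRamTower.isLocalHom_codRestrict _ _ hV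
  letI : Algebra A L := (χ.comp (algebraMap A C)).toAlgebra
  haveI : IsScalarTower A V L := IsScalarTower.of_algebraMap_eq fun _ => rfl
  haveI : Algebra.IsIntegral A C := Algebra.IsIntegral.of_finite A C
  let χA : C →ₐ[A] L := { χ with commutes' := fun _ => rfl }
  have hC : ∀ c, χ c ∈ V := fun c => by
    obtain ⟨v, hv⟩ := IsIntegrallyClosed.isIntegral_iff.1
      (((Algebra.IsIntegral.isIntegral (R := A) c).map χA).tower_top (A := V))
    exact (show (v : L) = χ c from hv) ▸ v.2
  let θ : C →+* V := RingHom.codRestrict χ V hC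
  have hθA : θ.comp (algebraMap A C) = algebraMap A V := RingHom.ext fun a => Subtype.ext rfl
  set P := (maximalIdeal V).comap θ
  haveI : P.IsPrime := Ideal.IsPrime.comap _
  have hPA : P.comap (algebraMap A C) = maximalIdeal A := by
    rw [Ideal.comap_comap, hθA, IsLocalRing.maximalIdeal_comap]
  let L' := Localization.AtPrime P
  have hu : ∀ s : P.primeCompl, IsUnit (θ s) := fun s => notMem_maximalIdeal.1 s.2
  let θ' : L' →+* V := IsLocalization.lift hu
  have hθ' : ∀ c, θ' (algebraMap C L' c) = θ c := IsLocalization.lift_eq hu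
  haveI : IsLocalHom (algebraMap A L') := ((IsLocalRing.local_hom_TFAE _).out 4 0).1 (by
    rw [IsScalarTower.algebraMap_eq A C L', ← Ideal.comap_comap,
      show (maximalIdeal L').comap (algebraMap C L') = P from IsLocalization.AtPrime.comap_maximalIdeal L' P]
    exact hPA)
  haveI : Algebra.FiniteType A C := Module.Finite.finiteType C
  haveI : Algebra.EssFiniteType C L' := Algebra.EssFiniteType.of_isLocalization L' P.primeCompl
  haveI : Algebra.EssFiniteType A L' := Algebra.EssFiniteType.comp A C L'
  haveI : Algebra.FormallyUnramified C L' := Algebra.FormallyUnramified.of_isLocalization P.primeCompl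
  haveI : Algebra.FormallyUnramified A L' := Algebra.FormallyUnramified.comp A C L'
  have hmap : (maximalIdeal A).map (algebraMap A L') = maximalIdeal L' := Algebra.FormallyUnramified.map_maximalIdeal
  haveI : Algebra.IsSeparable (ResidueField A) (ResidueField L') := inferInstance
  let D := θ'.range
  haveI : IsNoetherianRing C := IsNoetherianRing.of_finite A C
  haveI : IsNoetherianRing L' := IsLocalization.isNoetherianRing P.primeCompl _ inferInstance
  haveI : IsNoetherianRing D := isNoetherianRing_of_surjective L' D θ'.rangeRestrict θ'.rangeRestrict_surjective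
  haveI : IsLocalRing D := IsLocalRing.of_surjective' θ'.rangeRestrict θ'.rangeRestrict_surjective
  obtain ⟨π, hπ⟩ := IsDiscreteValuationRing.exists_irreducible A
  have hmA := (IsDiscreteValuationRing.irreducible_iff_uniformizer π).1 hπ
  have hπD : (maximalIdeal D) = Ideal.span {θ'.rangeRestrict (algebraMap A L' π)} := by
    rw [← IsLocalRing.map_maximalIdeal_of_surjective θ'.rangeRestrict θ'.rangeRestrict_surjective, ← hmap, hmA,
      Ideal.map_span, Ideal.map_span, Set.image_singleton, Set.image_singleton]
  have hθπ : ∀ a, θ' (algebraMap A L' a) = algebraMap A V a := fun a => by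
    rw [IsScalarTower.algebraMap_apply A C L', hθ']; exact RingHom.congr_fun hθA a
  haveI : IsPrincipalIdealRing D :=
    ((tfae_of_isNoetherianRing_of_isLocalRing_of_isDomain (R := D)).out 4 0).1
      (show (maximalIdeal D).IsPrincipal from ⟨⟨_, hπD⟩⟩)
  haveI : IsDiscreteValuationRing D :=
    { not_a_field' := fun h => by
        rw [hπD, Ideal.span_singleton_eq_bot] at h
        have h1 : θ' (algebraMap A L' π) = 0 := congrArg Subtype.val h
        rw [hθπ] at h1
        exact hπ.ne_zero (hinj ((congrArg Subtype.val h1 : _).trans (map_zero _).symm)) }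
  letI : Algebra D L := ((V.subtype).comp D.subtype).toAlgebra
  have hDinj : Function.Injective (algebraMap D L) := fun a b h => Subtype.ext (Subtype.ext h)
  haveI : IsFractionRing D L := by
    haveI : FaithfulSMul D L := (faithfulSMul_iff_algebraMap_injective D L).2 hDinj
    refine IsFractionRing.of_field D L fun z => ?_
    have hz : z ∈ Subfield.closure (Set.range χ) := by rw [hgen]; trivial
    have hle : Subfield.closure (Set.range χ) ≤ (IsFractionRing.lift (K := FractionRing D) hDinj).fieldRange := by
      refine Subfield.closure_le.2 ?_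
      rintro _ ⟨c, rfl⟩
      refine ⟨algebraMap D (FractionRing D) ⟨θ c, ⟨algebraMap C L' c, hθ' c⟩⟩, ?_⟩
      rw [IsFractionRing.lift_algebraMap]
      rfl
    obtain ⟨w, rfl⟩ := hle hz
    obtain ⟨a, b, -, rfl⟩ := IsFractionRing.div_surjective D w
    exact ⟨a, b, by rw [map_div₀, IsFractionRing.lift_algebraMap, IsFractionRing.lift_algebraMap]⟩
  have hsurj : Function.Surjective θ' := fun v => by
    have hdom : EtRam.Dominates D (algebraMap D L) V := by
      refine ⟨fun d => d.1.2, fun d hd => ?_⟩
      obtain ⟨e, he⟩ := θ'.rangeRestrict_surjective d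
      refine (V.valuation_lt_one_iff (d : V)).1 fun hu' => ?_
      rw [hπD, Ideal.mem_span_singleton] at hd
      obtain ⟨c, rfl⟩ := hd
      have h1 : IsUnit (θ' (algebraMap A L' π)) := isUnit_of_mul_isUnit_left hu'
      rw [hθπ] at h1
      exact hπ.not_isUnit (h1.of_map _ _)
    obtain ⟨d, hd⟩ := TameAbh.mem_range_of_dominates V hdom (v : L) v.2
    obtain ⟨e, he⟩ := θ'.rangeRestrict_surjective d
    exact ⟨e, Subtype.ext ((congrArg (fun z : D => ((z : V) : L)) he).trans hd)⟩
  refine ⟨?_, ?_⟩
  · show (maximalIdeal A).map (algebraMap A V) = maximalIdeal V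
    rw [← IsLocalRing.map_maximalIdeal_of_surjective θ' hsurj, ← hmap, Ideal.map_map,
      show θ'.comp (algebraMap A L') = algebraMap A V from RingHom.ext hθπ]
  · haveI : IsLocalHom θ' := IsLocalHom.of_surjective θ' hsurj
    let r : ResidueField L' →ₐ[ResidueField A] ResidueField V :=
      { ResidueField.map θ' with
        commutes' := fun x => by
          obtain ⟨a, rfl⟩ := residue_surjective x
          show residue V (θ' (algebraMap A L' a)) = residue V (algebraMap A V a)
          rw [hθπ] }
    have hr : Function.Surjective r := fun x => by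
      obtain ⟨v, rfl⟩ := residue_surjective x
      obtain ⟨l, rfl⟩ := hsurj v
      exact ⟨residue L' l, rfl⟩
    exact AlgEquiv.Algebra.isSeparable (AlgEquiv.ofBijective r ⟨r.toRingHom.injective, hr⟩)

theorem isTamelyRamified_of_unramified {A L : Type u} [CommRing A] [IsDomain A] [IsDiscreteValuationRing A] [Field L]
    (g : A →+* L) (hinj : Function.Injective g) (h : EtRam.IsUnramifiedExt A g) : EtRam.IsTamelyRamified A g := by
  intro V hV
  intro hloc
  obtain ⟨hw, hsep⟩ := h V hV
  refine ⟨hsep, fun p hp _ hdvd => ?_⟩
  letI : Algebra A V := (RingHom.codRestrict g V hV.1).toAlgebra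
  have hw' : (maximalIdeal A).map (algebraMap A V) = maximalIdeal V := hw
  have he : Ideal.ramificationIdx' (maximalIdeal A) (maximalIdeal V) = 1 := by
    refine Ideal.ramificationIdx'_spec (by rw [pow_one]; exact hw'.le) fun hle => ?_
    rw [hw'] at hle
    obtain ⟨π, hπ⟩ := IsDiscreteValuationRing.exists_irreducible A
    have hm : maximalIdeal V = Ideal.span {algebraMap A V π} := by
      rw [← hw', (IsDiscreteValuationRing.irreducible_iff_uniformizer π).1 hπ, Ideal.map_span, Set.image_singleton]
    rw [hm, Ideal.span_singleton_pow, Ideal.span_singleton_le_span_singleton, pow_succ, pow_one] at hle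
    obtain ⟨c, hc⟩ := hle
    have hπ0 : algebraMap A V π ≠ 0 := fun h0 => hπ.ne_zero (hinj ((congrArg Subtype.val h0).trans (map_zero g).symm))
    have h1 : IsUnit (algebraMap A V π) := IsUnit.of_mul_eq_one c (mul_left_cancel₀ hπ0 (by rw [mul_one, ← mul_assoc, ← hc]))
    exact hπ.not_isUnit (h1.of_map _ _)
  rw [he] at hdvd
  exact hp.one_lt.ne' (Nat.dvd_one.1 hdvd)

/-- Tameness at every place for a finite étale cover of a universally closed scheme. -/
theorem tame_of_proper {X Y S : Scheme.{u}} (s : X ⟶ S) [UniversallyClosed s] (f : Y ⟶ X) [IsFinite f] [Etale f]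
    (y : Y) (A : ValuationSubring (X.residueField (f.base y))) [IsDiscreteValuationRing A]
    (a : Spec (CommRingCat.of A) ⟶ S)
    (ha : Spec.map (CommRingCat.ofHom A.subtype) ≫ a = X.fromSpecResidueField (f.base y) ≫ s) :
    EtRam.IsTamelyRamified A ((f.residueFieldMap y).hom.comp A.subtype) := by
  obtain ⟨t, -, ht⟩ := DvrGeneric.exists_of_universallyClosed s A (X.fromSpecResidueField (f.base y)) a ha
  set g : A →+* Y.residueField y := (f.residueFieldMap y).hom.comp A.subtype
  have hinj : Function.Injective g := (f.residueFieldMap y).hom.injective.comp Subtype.val_injective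
  refine isTamelyRamified_of_unramified g hinj ?_
  let Z := pullback f t
  let w : Z ⟶ Spec (CommRingCat.of A) := pullback.snd f t
  haveI : IsFinite w := MorphismProperty.pullback_snd _ _ inferInstance
  haveI : Etale w := MorphismProperty.pullback_snd _ _ inferInstance
  haveI : IsAffine Z := isAffine_of_isAffineHom (X := Z) (Y := Spec (CommRingCat.of A)) w
  let C := Γ(Z, ⊤)
  let ψ := Spec.preimage (Z.isoSpec.inv ≫ w)
  letI : Algebra A C := ψ.hom.toAlgebra
  let w' := Spec.map (CommRingCat.ofHom (algebraMap A C))
  have hψ : w' = Z.isoSpec.inv ≫ w := Spec.map_preimage _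
  haveI : Algebra.Etale A C := RingHom.etale_algebraMap.1 ((HasRingHomProperty.Spec_iff (P := @Etale)).1
    (show Etale w' by rw [hψ]; infer_instance))
  haveI : Module.Finite A C := RingHom.finite_algebraMap.1 ((IsFinite.SpecMap_iff _).1
    (show IsFinite w' by rw [hψ]; infer_instance))
  have hcomm : Y.fromSpecResidueField y ≫ f = Spec.map (CommRingCat.ofHom g) ≫ t := by
    rw [← Scheme.Hom.SpecMap_residueFieldMap_fromSpecResidueField, ← ht, ← Category.assoc]
    congr 1
    exact (Spec.map_comp _ _).symm
  let pt : Spec (Y.residueField y) ⟶ Spec (CommRingCat.of C) :=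
    pullback.lift (Y.fromSpecResidueField y) (Spec.map (CommRingCat.ofHom g)) hcomm ≫ Z.isoSpec.hom
  let χ : C →+* Y.residueField y := (Spec.preimage pt).hom
  have hχ : Spec.map (CommRingCat.ofHom χ) = pt := Spec.map_preimage pt
  have hcg : χ.comp (algebraMap A C) = g := congrArg CommRingCat.Hom.hom (Spec.map_injective
    (show Spec.map (CommRingCat.ofHom (algebraMap A C) ≫ CommRingCat.ofHom χ) = Spec.map (CommRingCat.ofHom g) by
      rw [Spec.map_comp, hχ, show Spec.map (CommRingCat.ofHom (algebraMap A C)) = Z.isoSpec.inv ≫ w from hψ]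
      simp [pt, w]))
  let E := Subfield.closure (Set.range χ)
  have hgen : E = ⊤ := by
    let χE : C →+* E := RingHom.codRestrict χ E fun c => Subfield.subset_closure ⟨c, rfl⟩
    let h : Spec (CommRingCat.of E) ⟶ Y :=
      Spec.map (CommRingCat.ofHom χE) ≫ Z.isoSpec.inv ≫ pullback.fst f t
    have hh : Spec.map (CommRingCat.ofHom E.subtype) ≫ h = Y.fromSpecResidueField y := by
      simp only [h, ← Category.assoc, ← Spec.map_comp, ← CommRingCat.ofHom_comp]
      rw [show E.subtype.comp χE = χ from rfl, hχ]
      simp [pt]
    obtain ⟨⟨p, φ⟩, hp⟩ := (Scheme.SpecToEquivOfField E Y).symm.surjective h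
    replace hp : Spec.map φ ≫ Y.fromSpecResidueField p = h := hp
    have hpy : p = y := by
      let o : Spec (Y.residueField y) := IsLocalRing.closedPoint _
      have h1 : (Spec.map (CommRingCat.ofHom E.subtype) ≫ Spec.map φ ≫ Y.fromSpecResidueField p) o =
          Y.fromSpecResidueField y o := by rw [hp, hh]; rfl
      rw [Scheme.Hom.comp_apply, Scheme.Hom.comp_apply, Scheme.fromSpecResidueField_apply,
        Scheme.fromSpecResidueField_apply] at h1
      exact h1
    subst hpy
    have h2 : φ ≫ CommRingCat.ofHom E.subtype = 𝟙 _ := Spec.map_injective (by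
      rw [← cancel_mono (Y.fromSpecResidueField p), Spec.map_comp, Spec.map_id, Category.assoc, hp, hh]
      exact (Category.id_comp _).symm)
    refine eq_top_iff.2 fun z _ => ?_
    have h3 : E.subtype (φ.hom z) = z := RingHom.congr_fun (congrArg CommRingCat.Hom.hom h2) z
    exact h3 ▸ (φ.hom z).2
  rw [← hcg]
  exact isUnramifiedExt_of_etale χ (hcg ▸ hinj) hgen

end Groth.Agent.ProperTame
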